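import Groth.Agent.FinHopf.Frobenius
import Groth.Agent.FinHopf.Power
import Mathlib.FieldTheory.Perfect
import Mathlib.LinearAlgebra.Dimension.Constructions
import Mathlib.RingTheory.MvPolynomial.Basic

/-!
Structure of infinitesimal finite Hopf algebras over a perfect field: generated by elements
`x i` with `x i ^ p ^ e i = 0`, of dimension `p ^ ∑ e i`.
-/

set_option autoImplicit false
set_option linter.unusedSectionVars false
set_option linter.style.haveILetI false

universe u v

open Coalgebra Bialgebra

noncomputable section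

namespace Groth.Agent.InfStd

open Groth.Agent.FinHopf

section Mon

variable {k : Type u} [CommRing k] {A : Type v} [CommRing A] [Algebra k A]

/-- bounded monomials -/
def mon {ι : Type*} [Fintype ι] (x : ι → A) (N : ι → ℕ) (a : ∀ i, Fin (N i)) : A := ∏ i, x i ^ (a i : ℕ)

theorem span_mon_eq_top {ι : Type*} [Fintype ι] (x : ι → A) (N : ι → ℕ) (h0 : ∀ i, x i ^ N i = 0)
    (hgen : Algebra.adjoin k (Set.range x) = ⊤) : Submodule.span k (Set.range (mon x N)) = ⊤ := by
  classical
  rw [eq_top_iff]
  intro a _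
  obtain ⟨f, rfl⟩ : a ∈ (MvPolynomial.aeval (R := k) x).range := by
    rw [← Algebra.adjoin_range_eq_range_aeval, hgen]; trivial
  show MvPolynomial.aeval x f ∈ _
  rw [f.as_sum, map_sum]
  refine Submodule.sum_mem _ fun d _ => ?_
  rw [MvPolynomial.aeval_monomial, ← Algebra.smul_def]
  refine Submodule.smul_mem _ _ ?_
  rw [Finsupp.prod_fintype _ _ (fun i => pow_zero _)]
  by_cases hd : ∀ i, d i < N i
  · exact Submodule.subset_span ⟨fun i => ⟨d i, hd i⟩, rfl⟩
  · push Not at hd
    obtain ⟨i, hi⟩ := hd
    rw [Finset.prod_eq_zero (Finset.mem_univ i) (show x i ^ d i = 0 from pow_eq_zero_of_le hi (h0 i))]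
    exact zero_mem _

theorem finrank_le_prod {k : Type u} [Field k] {A : Type v} [CommRing A] [Algebra k A] {ι : Type*} [Fintype ι]
    (x : ι → A) (N : ι → ℕ) (h0 : ∀ i, x i ^ N i = 0) (hgen : Algebra.adjoin k (Set.range x) = ⊤) :
    Module.finrank k A ≤ ∏ i, N i := by
  classical
  have h := finrank_range_le_card (R := k) (mon x N)
  rw [Set.finrank, span_mon_eq_top x N h0 hgen, finrank_top] at h
  simpa [Fintype.card_pi] using h

end Mon

variable {k : Type u} [Field k] (p : ℕ) [hp : Fact p.Prime] [CharP k p]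
variable {A : Type v} [CommRing A] [HopfAlgebra k A]

/-- the `p`-th powers of a subalgebra over a perfect field form a subalgebra -/
def powSub [PerfectField k] (S : Subalgebra k A) : Subalgebra k A where
  carrier := {a | ∃ q ∈ S, q ^ p = a}
  mul_mem' := by
    rintro _ _ ⟨q, hq, rfl⟩ ⟨r, hr, rfl⟩
    exact ⟨q * r, mul_mem hq hr, mul_pow q r p⟩
  one_mem' := ⟨1, one_mem _, one_pow p⟩
  add_mem' := by
    have := charP_of_algHom (Bialgebra.counitAlgHom k A) p
    rintro _ _ ⟨q, hq, rfl⟩ ⟨r, hr, rfl⟩
    exact ⟨q + r, add_mem hq hr, add_pow_char q r p⟩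
  zero_mem' := ⟨0, zero_mem _, zero_pow hp.out.ne_zero⟩
  algebraMap_mem' := fun c => by
    haveI : PerfectRing k p := PerfectField.toPerfectRing p
    obtain ⟨c', hc'⟩ := (PerfectRing.bijective_frobenius (R := k) (p := p)).2 c
    exact ⟨algebraMap k A c', S.algebraMap_mem _, by rw [← map_pow]; exact congrArg _ hc'⟩

theorem exists_root [PerfectField k] {ι : Type*} (x : ι → A) {b : A}
    (hb : b ∈ Algebra.adjoin k (Set.range fun i => x i ^ p)) :
    ∃ q ∈ Algebra.adjoin k (Set.range x), q ^ p = b := by
  have : Algebra.adjoin k (Set.range fun i => x i ^ p) ≤ powSub p (Algebra.adjoin k (Set.range x)) :=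
    Algebra.adjoin_le (by rintro _ ⟨i, rfl⟩; exact ⟨x i, Algebra.subset_adjoin ⟨i, rfl⟩, rfl⟩)
  exact this hb

theorem pow_mem_adjoin {T : Set A} {q : A} (hq : q ∈ Algebra.adjoin k T) :
    q ^ p ∈ Algebra.adjoin k ((fun a => a ^ p) '' T) := by
  have := charP_of_algHom (Bialgebra.counitAlgHom k A) p
  induction hq using Algebra.adjoin_induction with
  | mem a ha => exact Algebra.subset_adjoin ⟨a, ha, rfl⟩
  | algebraMap c => rw [← map_pow]; exact Subalgebra.algebraMap_mem _ _
  | add a b _ _ ha hb => rw [add_pow_char]; exact add_mem ha hb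
  | mul a b _ _ ha hb => rw [mul_pow]; exact mul_mem ha hb

/-- the square of the augmentation ideal as a `k`-submodule -/
abbrev aug2 (k : Type u) [Field k] (A : Type v) [CommRing A] [HopfAlgebra k A] : Submodule k A :=
  ((aug k A) ^ 2).restrictScalars k

theorem sub_counit_mem_span {T : Set A} (hT : T ⊆ aug k A) {a : A} (ha : a ∈ Algebra.adjoin k T) :
    a - algebraMap k A (counit (R := k) a) ∈ Submodule.span k T ⊔ aug2 k A := by
  induction ha using Algebra.adjoin_induction with
  | mem a ha =>
    rw [mem_aug.1 (hT ha), map_zero, sub_zero]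
    exact Submodule.mem_sup_left (Submodule.subset_span ha)
  | algebraMap c => simp
  | add a b _ _ ha hb =>
    rw [map_add, map_add, add_sub_add_comm]
    exact add_mem ha hb
  | mul a b _ _ ha hb =>
    have e : a * b - algebraMap k A (counit (R := k) (a * b)) =
        counit (R := k) a • (b - algebraMap k A (counit (R := k) b)) +
        counit (R := k) b • (a - algebraMap k A (counit (R := k) a)) +
        (a - algebraMap k A (counit (R := k) a)) * (b - algebraMap k A (counit (R := k) b)) := by
      rw [Bialgebra.counit_mul, map_mul, Algebra.smul_def, Algebra.smul_def]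
      ring
    rw [e]
    refine add_mem (add_mem (Submodule.smul_mem _ _ hb) (Submodule.smul_mem _ _ ha)) (Submodule.mem_sup_right ?_)
    show _ ∈ (aug k A) ^ 2
    rw [pow_two]
    exact Ideal.mul_mem_mul (sub_counit_mem a) (sub_counit_mem b)

variable [Module.Finite k A]

theorem adjoin_eq_top_of_span (hA : IsInfinitesimal k A) {T : Set A} (hT : T ⊆ aug k A)
    (h : (aug k A).restrictScalars k ≤ Submodule.span k T ⊔ aug2 k A) : Algebra.adjoin k T = ⊤ := by
  have hspan : Submodule.span k T ≤ Subalgebra.toSubmodule (Algebra.adjoin k T) :=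
    Submodule.span_le.2 Algebra.subset_adjoin
  have hspan' : Submodule.span k T ≤ (aug k A).restrictScalars k := Submodule.span_le.2 hT
  have key : ∀ j, (aug k A).restrictScalars k ≤
      Subalgebra.toSubmodule (Algebra.adjoin k T) ⊔ ((aug k A) ^ (j + 1)).restrictScalars k := by
    intro j
    induction j with
    | zero => simp
    | succ j ih =>
      refine h.trans (sup_le (hspan.trans le_sup_left) ?_)
      intro z hz
      rw [Submodule.restrictScalars_mem, pow_two] at hz
      refine Submodule.mul_induction_on hz (fun a ha b hb => ?_) (fun a b => add_mem)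
      obtain ⟨s, hs, m, hm, rfl⟩ := Submodule.mem_sup.1 (ih ha)
      obtain ⟨s', hs', m', hm', rfl⟩ := Submodule.mem_sup.1 (ih hb)
      rw [Submodule.restrictScalars_mem] at hm hm'
      have hmaug : m ∈ aug k A := Ideal.pow_le_self (Nat.succ_ne_zero j) hm
      have hsaug : s ∈ aug k A := by
        have : s + m - m ∈ aug k A := sub_mem ha hmaug
        rwa [add_sub_cancel_right] at this
      have e : (s + m) * (s' + m') = s * s' + (s * m' + m * (s' + m')) := by ring
      rw [e]
      refine Submodule.add_mem_sup ((Algebra.adjoin k T).mul_mem (show s ∈ Algebra.adjoin k T from hs) (show s' ∈ Algebra.adjoin k T from hs')) ?_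
      show _ ∈ (aug k A) ^ (j + 1 + 1)
      refine add_mem ?_ ?_
      · rw [pow_succ']; exact Ideal.mul_mem_mul hsaug hm'
      · rw [pow_succ]; exact Ideal.mul_mem_mul hm hb
  rw [eq_top_iff]
  intro a _
  have h0 : (aug k A) ^ (Module.finrank k A + 1) = ⊥ :=
    le_bot_iff.1 ((Ideal.pow_le_pow_right (Nat.le_succ _)).trans (aug_pow_finrank hA).le)
  have := key (Module.finrank k A) (sub_counit_mem a)
  rw [h0, Submodule.restrictScalars_bot, sup_bot_eq] at this
  have h' := add_mem (show _ ∈ Algebra.adjoin k T from this) ((Algebra.adjoin k T).algebraMap_mem (counit (R := k) a))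
  rwa [sub_add_cancel] at h'

/-- the cotangent space embeds in that of the height one quotient -/
theorem pow_finrank_cotan_le :
    p ^ Module.finrank k ↥(((aug k A).restrictScalars k).map (aug2 k A).mkQ) ≤
      Module.finrank k (A ⧸ frobIdeal k A p) := by
  classical
  let F := frobIdeal k A p
  let Q := A ⧸ F
  have h1 : ∀ x ∈ aug k Q, x ^ p = 0 := fun x hx => by
    rw [quot_pow_p, show frobCounit p x = 0 from hx]
    simp [zero_pow hp.out.ne_zero]
  obtain ⟨d, x, D, hx, -, hgen, hd⟩ := exists_coords_finrank_eq_pow (k := k) (A := Q) p h1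
  let π := Ideal.Quotient.mkₐ k F
  have hπ : Function.Surjective π := Ideal.Quotient.mk_surjective
  have hcounit : ∀ a, counit (R := k) (π a) = counit (R := k) a := fun a => rfl
  choose x' hx' using fun i => hπ (x i)
  have hmap : (aug k A).map π.toRingHom = aug k Q := by
    refine le_antisymm (Ideal.map_le_iff_le_comap.2 fun a ha => ?_) fun q hq => ?_
    · exact mem_aug.2 ((hcounit a).trans (mem_aug.1 ha))
    · obtain ⟨a, rfl⟩ := hπ q
      exact Ideal.mem_map_of_mem _ (mem_aug.2 ((hcounit a).symm.trans (mem_aug.1 hq)))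
  have hF : F ≤ (aug k A) ^ 2 := Ideal.span_le.2 (by
    rintro _ ⟨y, hy, rfl⟩
    exact Ideal.pow_le_pow_right hp.out.two_le (Ideal.pow_mem_pow hy p))
  have hspan : ((aug k A).restrictScalars k).map (aug2 k A).mkQ ≤ Submodule.span k
      (Set.range fun i => (aug2 k A).mkQ (x' i)) := by
    rintro _ ⟨y, hy, rfl⟩
    obtain ⟨c, hc⟩ := hgen (π y) (mem_aug.2 ((hcounit y).trans (mem_aug.1 hy)))
    rw [← hmap, ← Ideal.map_pow] at hc
    have hz : π (y - ∑ i, c i • x' i) = π y - ∑ i, c i • x i := by simp [map_sum, hx']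
    rw [← hz] at hc
    obtain ⟨w, hw, hwe⟩ := (Ideal.mem_map_iff_of_surjective π.toRingHom hπ).1 hc
    have hmem : y - ∑ i, c i • x' i ∈ (aug k A) ^ 2 := by
      have : (y - ∑ i, c i • x' i) - w ∈ F := (Ideal.Quotient.eq).1 hwe.symm
      simpa using add_mem (hF this) hw
    rw [(Submodule.Quotient.eq _).2 (show y - ∑ i, c i • x' i ∈ aug2 k A from hmem) |>
      (fun h => (h : (aug2 k A).mkQ y = _)), ← Submodule.mkQ_apply, map_sum]
    exact Submodule.sum_mem _ fun i _ => by
      rw [map_smul]; exact Submodule.smul_mem _ _ (Submodule.subset_span ⟨i, rfl⟩)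
  calc p ^ Module.finrank k ↥(((aug k A).restrictScalars k).map (aug2 k A).mkQ) ≤ p ^ d :=
        Nat.pow_le_pow_right hp.out.pos
          ((Submodule.finrank_mono hspan).trans ((finrank_range_le_card _).trans (Fintype.card_fin d).le))
    _ = Module.finrank k Q := hd.symm

variable (k) in
/-- standard generators -/
def HasStd (A : Type v) [CommRing A] [HopfAlgebra k A] : Prop :=
  ∃ (n : ℕ) (e : Fin n → ℕ) (x : Fin n → A), (∀ i, 1 ≤ e i) ∧ (∀ i, x i ∈ aug k A) ∧
    (∀ i, x i ^ p ^ e i = 0) ∧ Algebra.adjoin k (Set.range x) = ⊤ ∧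
    Module.finrank k A = p ^ ∑ i, e i

theorem step [PerfectField k] (hA : IsInfinitesimal k A) {r : ℕ} (f : Fin r → ℕ) (y : Fin r → A)
    (hf : ∀ i, 1 ≤ f i) (hy : ∀ i, y i ∈ aug k A) (hy0 : ∀ i, y i ^ p ^ f i = 0)
    (hgen : Algebra.adjoin k (Set.range y) = frobSub k A p)
    (hdim : Module.finrank k (frobSub k A p) = p ^ ∑ i, f i) : HasStd k p A := by
  classical
  have := charP_of_algHom (Bialgebra.counitAlgHom k A) p
  have haug : ∀ a : A, a ^ p ∈ aug k A → a ∈ aug k A := fun a ha => by
    rw [mem_aug] at ha ⊢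
    rw [← Bialgebra.counitAlgHom_apply, map_pow] at ha
    exact eq_zero_of_pow_eq_zero ha
  have hB : frobSub k A p ≤ powSub p ⊤ :=
    Algebra.adjoin_le (by rintro _ ⟨q, rfl⟩; exact ⟨q, trivial, rfl⟩)
  choose x hx' hx using fun i => hB (hgen.le (Algebra.subset_adjoin ⟨i, rfl⟩) : y i ∈ frobSub k A p)
  have hxa : ∀ i, x i ∈ aug k A := fun i => haug _ (by rw [hx]; exact hy i)
  let Z := {z : A // z ∈ aug k A ∧ z ^ p = 0}
  let val : Fin r ⊕ Z → A := Sum.elim x Subtype.val
  have hval : Set.range val ⊆ aug k A := by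
    rintro _ ⟨i | z, rfl⟩
    · exact hxa i
    · exact z.2.1
  have htop : Algebra.adjoin k (Set.range val) = ⊤ := by
    rw [eq_top_iff]
    intro a _
    have hw : (a - algebraMap k A (counit (R := k) a)) ^ p ∈ Algebra.adjoin k (Set.range fun i => x i ^ p) := by
      simp only [hx]
      exact hgen.ge (pow_mem_frobSub p _)
    obtain ⟨q, hq, hqw⟩ := exists_root p x hw
    have hqa : q ∈ aug k A := haug _ (by rw [hqw]; exact Ideal.pow_mem_of_mem _ (sub_counit_mem a) p hp.out.pos)
    let z : Z := ⟨a - algebraMap k A (counit (R := k) a) - q, sub_mem (sub_counit_mem a) hqa, by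
      rw [sub_pow_char, hqw, sub_self]⟩
    have hq' : q ∈ Algebra.adjoin k (Set.range val) :=
      Algebra.adjoin_mono (by rintro _ ⟨i, rfl⟩; exact ⟨Sum.inl i, rfl⟩) hq
    have hz : (z : A) ∈ Algebra.adjoin k (Set.range val) := Algebra.subset_adjoin ⟨Sum.inr z, rfl⟩
    have : a = (z : A) + q + algebraMap k A (counit (R := k) a) := by simp [z]
    rw [this]
    exact add_mem (add_mem hz hq') (Subalgebra.algebraMap_mem _ _)
  let w : Fin r ⊕ Z → A ⧸ aug2 k A := fun i => (aug2 k A).mkQ (val i)
  obtain ⟨κ, a, ha, hspan, hli⟩ := exists_linearIndependent' k w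
  haveI : Finite κ := hli.finite_of_isNoetherian
  haveI : Fintype κ := Fintype.ofFinite κ
  -- the chosen elements generate
  have hcot : ((aug k A).restrictScalars k).map (aug2 k A).mkQ = Submodule.span k (Set.range (w ∘ a)) := by
    rw [hspan]
    refine le_antisymm ?_ (Submodule.span_le.2 ?_)
    · rintro _ ⟨b, hb, rfl⟩
      have hb' := sub_counit_mem_span hval (htop.ge (Algebra.mem_top (R := k) (x := b)))
      rw [mem_aug.1 hb, map_zero, sub_zero] at hb'
      obtain ⟨s, hs, m, hm, rfl⟩ := Submodule.mem_sup.1 hb'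
      rw [map_add, show (aug2 k A).mkQ m = 0 from (Submodule.Quotient.mk_eq_zero _).2 hm, add_zero,
        show w = (aug2 k A).mkQ ∘ val from rfl, Set.range_comp, Submodule.span_image]
      exact ⟨s, hs, rfl⟩
    · rintro _ ⟨i, rfl⟩
      exact ⟨val i, hval ⟨i, rfl⟩, rfl⟩
  have htop' : Algebra.adjoin k (Set.range (val ∘ a)) = ⊤ := by
    refine adjoin_eq_top_of_span hA ((Set.range_comp_subset_range _ _).trans hval) fun b hb => ?_
    have h1 : (aug2 k A).mkQ b ∈ Submodule.span k (Set.range ((aug2 k A).mkQ ∘ (val ∘ a))) := by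
      rw [show (aug2 k A).mkQ ∘ (val ∘ a) = w ∘ a from rfl, ← hcot]
      exact ⟨b, hb, rfl⟩
    rw [Set.range_comp, Submodule.span_image, ← Submodule.mem_comap, Submodule.comap_map_eq,
      Submodule.ker_mkQ] at h1
    exact h1
  -- all the lifts of the generators of the Frobenius image are chosen
  have hall : ∀ j, ∃ i, a i = Sum.inl j := by
    intro j
    by_contra hj
    push Not at hj
    let y' : {i // i ≠ j} → frobSub k A p := fun i => ⟨y i, hgen.le (Algebra.subset_adjoin ⟨i, rfl⟩)⟩
    have hy' : Algebra.adjoin k (Set.range y') = ⊤ := by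
      rw [eq_top_iff]
      rintro ⟨b, hb⟩ -
      obtain ⟨q, -, rfl⟩ := hB hb
      have hq := pow_mem_adjoin p (htop'.ge (Algebra.mem_top (R := k) (x := q)))
      have hle : Algebra.adjoin k ((fun a => a ^ p) '' Set.range (val ∘ a)) ≤
          (Algebra.adjoin k (Set.range y')).map (frobSub k A p).val := by
        refine Algebra.adjoin_le ?_
        rintro _ ⟨_, ⟨i, rfl⟩, rfl⟩
        show (val (a i)) ^ p ∈ (Algebra.adjoin k (Set.range y')).map (frobSub k A p).val
        cases hai : a i with
        | inl i₀ =>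
          refine ⟨y' ⟨i₀, ?_⟩, Algebra.subset_adjoin ⟨_, rfl⟩, ?_⟩
          · rintro rfl; exact hj i hai
          · exact (hx i₀).symm
        | inr z =>
          show (z : A) ^ p ∈ _
          rw [z.2.2]
          exact zero_mem _
      obtain ⟨c, hc, hc'⟩ := hle hq
      exact (show c = ⟨_, hb⟩ from Subtype.ext hc') ▸ hc
    have h1 := finrank_le_prod y' (fun i => p ^ f i) (fun i => Subtype.ext (hy0 i)) hy'
    rw [hdim, Finset.prod_pow_eq_pow_sum, Nat.pow_le_pow_iff_right hp.out.one_lt] at h1
    have h2 : ∑ i : {i // i ≠ j}, f i + f j = ∑ i, f i := by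
      rw [← Finset.sum_subtype (Finset.univ.erase j) (by simp) f, Finset.sum_erase_add _ _ (Finset.mem_univ j)]
    have := hf j
    omega
  choose σ hσ using hall
  have hσi : Function.Injective σ := fun i j h => Sum.inl_injective (by rw [← hσ i, ← hσ j, h])
  let g : κ → ℕ := fun i => Sum.elim (fun i => f i + 1) (fun _ => 1) (a i)
  have hcard : Fintype.card κ = Module.finrank k ↥(((aug k A).restrictScalars k).map (aug2 k A).mkQ) := by
    rw [hcot, finrank_span_eq_card hli]
  have hsum : ∑ i, g i = (∑ i, f i) + Fintype.card κ := by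
    have e : ∀ i, g i = Sum.elim f (fun _ => 0) (a i) + 1 := fun i => by
      show Sum.elim (fun i => f i + 1) (fun _ => 1) (a i) = _
      cases a i <;> simp
    rw [Finset.sum_congr rfl (fun i _ => e i), Finset.sum_add_distrib, Finset.sum_const, Finset.card_univ,
      smul_eq_mul, mul_one]
    congr 1
    refine (Fintype.sum_of_injective σ hσi _ _ (fun i hi => ?_) (fun i => ?_)).symm
    · cases hai : a i with
      | inl i₀ => exact absurd ⟨i₀, ha (by rw [hσ i₀, hai])⟩ hi
      | inr z => rfl
    · rw [hσ i]; rfl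
  have hz : ∀ i, val (a i) ^ p ^ g i = 0 := fun i => by
    show val (a i) ^ p ^ Sum.elim (fun i => f i + 1) (fun _ => 1) (a i) = 0
    cases a i with
    | inl i₀ =>
      show x i₀ ^ p ^ (f i₀ + 1) = 0
      rw [pow_succ', pow_mul, hx, hy0]
    | inr z =>
      show (z : A) ^ p ^ 1 = 0
      rw [pow_one, z.2.2]
  have hupper := finrank_le_prod (val ∘ a) (fun i => p ^ g i) hz htop'
  rw [Finset.prod_pow_eq_pow_sum] at hupper
  have hlower : p ^ ∑ i, g i ≤ Module.finrank k A := by
    rw [hsum, pow_add, finrank_eq_mul p hA, hdim, hcard]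
    exact Nat.mul_le_mul_left _ (pow_finrank_cotan_le p)
  let ε := (Fintype.equivFin κ).symm
  refine ⟨Fintype.card κ, g ∘ ε, val ∘ a ∘ ε, fun i => ?_, fun i => hval ⟨_, rfl⟩, fun i => hz _, ?_, ?_⟩
  · show 1 ≤ Sum.elim (fun i => f i + 1) (fun _ => 1) (a (ε i))
    cases a (ε i) <;> simp
  · rw [← Function.comp_assoc, EquivLike.range_comp, htop']
  · rw [show (∑ i, (g ∘ ε) i) = ∑ i, g i from Equiv.sum_comp ε g]
    exact le_antisymm hupper hlower

theorem hasStd [PerfectField k] (hA : IsInfinitesimal k A) : HasStd k p A := by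
  suffices ∀ n, ∀ (C : Type v) [CommRing C] [HopfAlgebra k C] [Module.Finite k C],
      IsInfinitesimal k C → Module.finrank k C = n → HasStd k p C from this _ A hA rfl
  intro n
  induction n using Nat.strong_induction_on with
  | _ n ih =>
    intro C _ _ _ hC hn
    by_cases haug : aug k C = ⊥
    · have hsurj : Function.Surjective (algebraMap k C) := fun x => ⟨counit (R := k) x, by
        have := (haug ▸ sub_counit_mem (k := k) x : x - algebraMap k C (counit (R := k) x) ∈ (⊥ : Ideal C))
        exact (sub_eq_zero.mp this).symm⟩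
      have hb : Function.Bijective (algebraMap k C) := by
        have := nontrivial_of_hopf k C
        exact ⟨(algebraMap k C).injective, hsurj⟩
      refine ⟨0, Fin.elim0, Fin.elim0, fun i => i.elim0, fun i => i.elim0, fun i => i.elim0, ?_, ?_⟩
      · rw [eq_top_iff]
        intro x _
        obtain ⟨c, rfl⟩ := hsurj x
        exact Subalgebra.algebraMap_mem _ c
      · rw [← (LinearEquiv.ofBijective (Algebra.linearMap k C) hb).finrank_eq, Module.finrank_self]
        simp
    · have hlt : Module.finrank k (frobSub k C p) < n := by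
        rw [← hn]
        exact Submodule.finrank_lt (s := Subalgebra.toSubmodule (frobSub k C p))
          (fun h => frobSub_ne_top p haug hC (Subalgebra.toSubmodule.injective (h.trans Algebra.top_toSubmodule.symm)))
      letI := subHopf (frobSub k C p) (frobSub_comul p) (frobSub_antipode p)
      have hB : IsInfinitesimal k (frobSub k C p) := fun x hx => by
        obtain ⟨m, hm⟩ := hC (x : C) hx
        exact ⟨m, Subtype.ext hm⟩
      obtain ⟨r, f, y, hf, hy, hy0, hgen, hdim⟩ := ih _ hlt (frobSub k C p) hB rfl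
      refine step p hC f (fun i => (y i : C)) hf (fun i => hy i) (fun i => ?_) ?_ hdim
      · rw [← SubmonoidClass.coe_pow, hy0]; rfl
      · rw [show (Set.range fun i => (y i : C)) = (frobSub k C p).val '' Set.range y from Set.range_comp _ _,
          ← AlgHom.map_adjoin, hgen, Algebra.map_top, Subalgebra.range_val]

end Groth.Agent.InfStd
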