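import Groth.Agent.InfStd.Field
import Groth.Agent.AdicLim.Noetherian
import Mathlib.RingTheory.LocalRing.Module
import Mathlib.RingTheory.HopfAlgebra.TensorProduct
import Mathlib.RingTheory.MvPowerSeries.Equiv
import Mathlib.RingTheory.MvPowerSeries.Trunc

/-!
Connected finite flat Hopf algebras over a complete Noetherian local ring with perfect residue field:
presentation `R[[X]] / (X_i ^ p ^ e_i + g_i)`.
-/

set_option autoImplicit false
set_option linter.style.haveILetI false
set_option linter.unusedSectionVars false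

universe u v

open TensorProduct

noncomputable section

namespace Groth.Agent.InfStd

open Groth.Agent.FinHopf

variable {R : Type u} [CommRing R]

/-- exponent vector of a bounded multi-index -/
def expo {n : ℕ} {N : Fin n → ℕ} (a : ∀ i, Fin (N i)) : Fin n →₀ ℕ :=
  Finsupp.equivFunOnFinite.symm fun i => (a i : ℕ)

theorem expo_apply {n : ℕ} {N : Fin n → ℕ} (a : ∀ i, Fin (N i)) (i : Fin n) : expo a i = (a i : ℕ) := rfl

theorem aeval_monomial_expo {S : Type v} [CommRing S] [Algebra R S] {n : ℕ} {N : Fin n → ℕ} (x : Fin n → S)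
    (a : ∀ i, Fin (N i)) (c : R) : MvPolynomial.aeval x (MvPolynomial.monomial (expo a) c) = c • mon x N a := by
  rw [MvPolynomial.aeval_monomial, ← Algebra.smul_def, Finsupp.prod_fintype _ _ (fun i => pow_zero _)]
  rfl

open Classical in
/-- the series dividing out `X i ^ N i` -/
def divSeries {n : ℕ} (N : Fin n → ℕ) (f : MvPowerSeries (Fin n) R) (i : Fin n) : MvPowerSeries (Fin n) R := fun e =>
  if ∀ j, j < i → (e + Finsupp.single i (N i)) j < N j then MvPowerSeries.coeff (e + Finsupp.single i (N i)) f else 0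

open Classical in
theorem coeff_divSeries {n : ℕ} (N : Fin n → ℕ) (f : MvPowerSeries (Fin n) R) (i : Fin n) (e : Fin n →₀ ℕ) :
    MvPowerSeries.coeff e (divSeries N f i) = if ∀ j, j < i → (e + Finsupp.single i (N i)) j < N j
      then MvPowerSeries.coeff (e + Finsupp.single i (N i)) f else 0 := rfl

/-- every power series is a bounded polynomial plus a combination of the `X i ^ N i` -/
theorem exists_bounded_decomp {n : ℕ} (N : Fin n → ℕ) (f : MvPowerSeries (Fin n) R) :
    ∃ (c : (∀ i, Fin (N i)) → R) (h : Fin n → MvPowerSeries (Fin n) R),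
      f = (∑ a, MvPowerSeries.monomial (expo a) (c a)) + ∑ i, MvPowerSeries.X i ^ N i * h i := by
  classical
  refine ⟨fun a => MvPowerSeries.coeff (expo a) f, divSeries N f, ?_⟩
  refine MvPowerSeries.ext fun d => ?_
  simp only [map_add, map_sum, MvPowerSeries.X_pow_eq, MvPowerSeries.coeff_monomial_mul, one_mul]
  by_cases hd : ∀ i, d i < N i
  · rw [Finset.sum_eq_single (fun i => (⟨d i, hd i⟩ : Fin (N i))) (fun a _ ha => ?_)
      (fun h => absurd (Finset.mem_univ _) h),
      Finset.sum_eq_zero (fun i _ => if_neg fun h => not_lt.2 (by simpa using h i) (hd i)), add_zero]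
    · rw [show expo (fun i => (⟨d i, hd i⟩ : Fin (N i))) = d from Finsupp.ext fun i => rfl,
        MvPowerSeries.coeff_monomial_same]
    · rw [MvPowerSeries.coeff_monomial, if_neg]
      intro h
      exact ha (funext fun i => Fin.ext (DFunLike.congr_fun h i).symm)
  · push Not at hd
    obtain ⟨i, hi, hmin⟩ : ∃ i, N i ≤ d i ∧ ∀ j, j < i → d j < N j := by
      have hne : (Finset.univ.filter fun i => N i ≤ d i).Nonempty := ⟨hd.choose, by simpa using hd.choose_spec⟩
      refine ⟨_, (Finset.mem_filter.1 (Finset.min'_mem _ hne)).2, fun j hj => ?_⟩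
      by_contra h
      exact absurd (Finset.min'_le _ j (by simpa using h)) (not_le.2 hj)
    rw [Finset.sum_eq_zero (s := Finset.univ) (f := fun a => MvPowerSeries.coeff d
      (MvPowerSeries.monomial (expo a) (MvPowerSeries.coeff (expo a) f))) (fun a _ => by
      rw [MvPowerSeries.coeff_monomial, if_neg]
      intro h
      rw [h, expo_apply] at hi
      exact absurd (a i).2 (not_lt.2 hi)), zero_add,
      Finset.sum_eq_single i (fun j _ hj => ?_) (fun h => absurd (Finset.mem_univ _) h)]
    · have hle : Finsupp.single i (N i) ≤ d := Finsupp.single_le_iff.2 hi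
      rw [if_pos hle]
      rw [coeff_divSeries, tsub_add_cancel_of_le hle, if_pos hmin]
    · split_ifs with hle
      · rw [coeff_divSeries, tsub_add_cancel_of_le hle, if_neg]
        intro h
        rcases lt_or_gt_of_ne hj with h' | h'
        · exact absurd (hmin j h') (not_lt.2 (Finsupp.single_le_iff.1 hle))
        · exact absurd (h i h') (not_lt.2 hi)
      · rfl

variable [IsNoetherianRing R] [IsLocalRing R] [IsAdicComplete (IsLocalRing.maximalIdeal R) R]
  {A : Type v} [CommRing A] [Algebra R A] [Module.Finite R A] [IsLocalRing A]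

theorem exists_iso {n : ℕ} (N : Fin n → ℕ) (hN : ∀ i, N i ≠ 0) (x : Fin n → A)
    (hx : ∀ i, x i ∈ IsLocalRing.maximalIdeal A) (g : Fin n → MvPolynomial (Fin n) R)
    (hg : ∀ i d, (g i).coeff d ∈ IsLocalRing.maximalIdeal R) (hF : ∀ i, x i ^ N i + MvPolynomial.aeval x (g i) = 0)
    (hΛ : Function.Bijective (Finsupp.linearCombination R fun a : ∀ i, Fin (N i) => mon x N a)) :
    Nonempty (A ≃ₐ[R] (MvPowerSeries (Fin n) R ⧸
        Ideal.span (Set.range fun i => (MvPowerSeries.X i : MvPowerSeries (Fin n) R) ^ N i + ↑(g i)))) := by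
  classical
  let F : Fin n → MvPowerSeries (Fin n) R := fun i => (MvPowerSeries.X i : MvPowerSeries (Fin n) R) ^ N i + ↑(g i)
  let Fp : Fin n → MvPolynomial (Fin n) R := fun i => MvPolynomial.X i ^ N i + g i
  let J : Ideal (MvPowerSeries (Fin n) R) := Ideal.span (Set.range F)
  let cst : MvPowerSeries (Fin n) R →+* IsLocalRing.ResidueField R :=
    (IsLocalRing.residue R).comp (MvPowerSeries.constantCoeff (σ := Fin n) (R := R))
  have hJ : ∀ f ∈ J, cst f = 0 := fun f hf => by
    refine (Ideal.span_le.2 ?_ : J ≤ RingHom.ker cst) hf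
    rintro _ ⟨i, rfl⟩
    show IsLocalRing.residue R (MvPowerSeries.constantCoeff ((MvPowerSeries.X i : MvPowerSeries (Fin n) R) ^ N i + (↑(g i) : MvPowerSeries (Fin n) R))) = 0
    rw [map_add, map_pow, MvPowerSeries.constantCoeff_X, zero_pow (hN i), zero_add,
      ← MvPowerSeries.coeff_zero_eq_constantCoeff_apply, MvPolynomial.coeff_coe, IsLocalRing.residue_eq_zero_iff]
    exact hg i 0
  let Q := MvPowerSeries (Fin n) R ⧸ J
  let εQ : Q →+* IsLocalRing.ResidueField R := Ideal.Quotient.lift J cst hJ
  haveI : Nontrivial Q := εQ.domain_nontrivial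
  haveI : IsLocalRing Q := IsLocalRing.of_surjective' (Ideal.Quotient.mk J) Ideal.Quotient.mk_surjective
  let β : MvPolynomial (Fin n) R →ₐ[R] Q :=
    (Ideal.Quotient.mkₐ R J).comp (MvPolynomial.coeToMvPowerSeries.algHom R)
  have hβ : ∀ f : MvPolynomial (Fin n) R, β f = Ideal.Quotient.mk J (↑f) := fun f => by
    show Ideal.Quotient.mk J (MvPolynomial.coeToMvPowerSeries.algHom R f) = _
    rw [MvPolynomial.coeToMvPowerSeries.algHom_apply, Algebra.algebraMap_self, MvPowerSeries.map_id]
    rfl
  -- monomials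
  let Λ' : ((∀ i, Fin (N i)) →₀ R) →ₗ[R] Q := Finsupp.linearCombination R fun a => β (MvPolynomial.monomial (expo a) 1)
  let P : ((∀ i, Fin (N i)) →₀ R) →ₗ[R] MvPolynomial (Fin n) R :=
    Finsupp.linearCombination R fun a => MvPolynomial.monomial (expo a) 1
  have hPβ : ∀ c, β (P c) = Λ' c := fun c => by
    show β.toLinearMap (P c) = _
    rw [Finsupp.apply_linearCombination]
    rfl
  haveI : IsPrecomplete (IsLocalRing.maximalIdeal R) ((∀ i, Fin (N i)) →₀ R) :=
    (AdicLim.isAdicComplete_of_finite (IsLocalRing.maximalIdeal R) ((∀ i, Fin (N i)) →₀ R)).toIsPrecomplete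
  have hker : (IsLocalRing.maximalIdeal R).map (algebraMap R Q) ≤ IsLocalRing.maximalIdeal Q := by
    refine le_trans ?_ (IsLocalRing.le_maximalIdeal (RingHom.ker_ne_top εQ))
    rw [Ideal.map_le_iff_le_comap]
    intro r hr
    show cst (algebraMap R (MvPowerSeries (Fin n) R) r) = 0
    rw [show algebraMap R (MvPowerSeries (Fin n) R) r = MvPowerSeries.C r from rfl]
    show IsLocalRing.residue R (MvPowerSeries.constantCoeff (MvPowerSeries.C r)) = 0
    rw [MvPowerSeries.constantCoeff_C, IsLocalRing.residue_eq_zero_iff]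
    exact hr
  haveI : IsHausdorff (IsLocalRing.maximalIdeal R) Q := ⟨fun q hq => by
    rw [← Ideal.mem_bot, ← Ideal.iInf_pow_eq_bot_of_isLocalRing (IsLocalRing.maximalIdeal Q)
      (IsLocalRing.maximalIdeal.isMaximal Q).ne_top, Submodule.mem_iInf]
    intro j
    have h := hq j
    rw [SModEq.zero, Ideal.smul_top_eq_map, Submodule.restrictScalars_mem, Ideal.map_pow] at h
    exact Ideal.pow_right_mono hker j h⟩
  have hgQ : ∀ i, β (g i) ∈ (IsLocalRing.maximalIdeal R).map (algebraMap R Q) := fun i => by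
    rw [← β.comp_algebraMap, ← Ideal.map_map]
    exact Ideal.mem_map_of_mem _ (MvPolynomial.mem_map_C_iff.2 (hg i))
  have hΛ' : Function.Surjective Λ' := by
    refine surjective_of_mkQ_comp_surjective (I := IsLocalRing.maximalIdeal R) fun q' => ?_
    obtain ⟨q, rfl⟩ := Submodule.mkQ_surjective _ q'
    obtain ⟨f, rfl⟩ := Ideal.Quotient.mk_surjective q
    obtain ⟨c, h, hf⟩ := exists_bounded_decomp N f
    refine ⟨Finsupp.equivFunOnFinite.symm c, ?_⟩
    refine (Submodule.Quotient.eq _).2 ?_
    have hsum : Λ' (Finsupp.equivFunOnFinite.symm c) =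
        Ideal.Quotient.mk J (∑ a, MvPowerSeries.monomial (expo a) (c a)) := by
      show Finsupp.linearCombination R _ _ = _
      rw [Finsupp.linearCombination_apply, Finsupp.sum_fintype _ _ (fun a => by simp), map_sum]
      refine Finset.sum_congr rfl fun a _ => ?_
      rw [← map_smul, MvPolynomial.smul_monomial, smul_eq_mul, mul_one, hβ, MvPolynomial.coe_monomial]
      rfl
    rw [hsum, Ideal.smul_top_eq_map, Submodule.restrictScalars_mem, ← map_sub]
    conv => arg 2; rw [hf]
    rw [sub_add_cancel_left, map_neg, neg_mem_iff, map_sum]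
    refine Submodule.sum_mem _ fun i _ => ?_
    rw [map_mul]
    refine Ideal.mul_mem_right _ _ ?_
    have e : Ideal.Quotient.mk J (MvPowerSeries.X i ^ N i) = - β (g i) := by
      rw [hβ, ← map_neg, Ideal.Quotient.eq, sub_neg_eq_add]
      exact Ideal.subset_span ⟨i, rfl⟩
    rw [e]
    exact neg_mem (hgQ i)
  have hβsurj : Function.Surjective β := fun q => by
    obtain ⟨c, rfl⟩ := hΛ' q
    exact ⟨P c, hPβ c⟩
  -- the kernel of `β` maps to zero
  haveI : IsNoetherianRing A := IsNoetherianRing.of_finite R A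
  have hkerβ : ∀ f : MvPolynomial (Fin n) R, β f = 0 → MvPolynomial.aeval x f = 0 := by
    intro f hf
    rw [hβ, Ideal.Quotient.eq_zero_iff_mem, Ideal.mem_span_range_iff_exists_fun] at hf
    obtain ⟨H, hH⟩ := hf
    rw [← Ideal.mem_bot, ← Ideal.iInf_pow_eq_bot_of_isLocalRing (IsLocalRing.maximalIdeal A)
      (IsLocalRing.maximalIdeal.isMaximal A).ne_top, Submodule.mem_iInf]
    intro M
    let bd : Fin n →₀ ℕ := Finsupp.equivFunOnFinite.symm fun _ => M
    let Ht : Fin n → MvPolynomial (Fin n) R := fun i => MvPowerSeries.trunc' R bd (H i)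
    let D : MvPolynomial (Fin n) R := f - ∑ i, Ht i * Fp i
    have hD : MvPolynomial.aeval x D = MvPolynomial.aeval x f := by
      simp [D, Fp, map_sum, hF]
    rw [← hD, D.as_sum, map_sum]
    refine Submodule.sum_mem _ fun d hd => ?_
    rw [MvPolynomial.aeval_monomial]
    refine Ideal.mul_mem_left _ _ ?_
    have hcoe : (↑D : MvPowerSeries (Fin n) R) = ∑ i, (H i - ↑(Ht i)) * F i := by
      simp only [sub_mul, Finset.sum_sub_distrib, hH, D, F, Fp]
      rw [← MvPolynomial.coeToMvPowerSeries.ringHom_apply, map_sub, map_sum]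
      simp
    obtain ⟨j, hj⟩ : ∃ j, M < d j := by
      by_contra hc
      push Not at hc
      refine (MvPolynomial.mem_support_iff.1 hd) ?_
      rw [← MvPolynomial.coeff_coe, hcoe, map_sum]
      refine Finset.sum_eq_zero fun i _ => ?_
      rw [MvPowerSeries.coeff_mul]
      refine Finset.sum_eq_zero fun e he => ?_
      have hle : e.1 ≤ bd := fun l =>
        le_trans (le_trans (Nat.le_add_right _ (e.2 l)) (le_of_eq (by
          rw [← Finsupp.add_apply, Finset.HasAntidiagonal.mem_antidiagonal.1 he]))) (hc l)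
      rw [map_sub, MvPolynomial.coeff_coe, MvPowerSeries.coeff_trunc', if_pos hle, sub_self, zero_mul]
    rw [Finsupp.prod_fintype _ _ (fun i => pow_zero _), ← Finset.mul_prod_erase _ _ (Finset.mem_univ j)]
    exact Ideal.mul_mem_right _ _ (Ideal.pow_le_pow_right hj.le (Ideal.pow_mem_pow (hx j) _))
  let ψ : Q →ₐ[R] A := AlgHom.liftOfSurjective β hβsurj (MvPolynomial.aeval x) (fun f hf => hkerβ f hf)
  have hψ : ∀ f, ψ (β f) = MvPolynomial.aeval x f := fun f =>
    AlgHom.liftOfSurjective_apply β hβsurj (MvPolynomial.aeval x) _ f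
  have hcomp : ∀ c, ψ (Λ' c) = Finsupp.linearCombination R (fun a : ∀ i, Fin (N i) => mon x N a) c := by
    intro c
    rw [← hPβ, hψ]
    show (MvPolynomial.aeval x).toLinearMap (P c) = _
    rw [Finsupp.apply_linearCombination]
    congr 2
    funext a
    show MvPolynomial.aeval x (MvPolynomial.monomial (expo a) 1) = _
    rw [aeval_monomial_expo, one_smul]
  have hbij : Function.Bijective ψ := by
    refine ⟨fun q q' h => ?_, fun a => ?_⟩
    · obtain ⟨c, rfl⟩ := hΛ' q
      obtain ⟨c', rfl⟩ := hΛ' q'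
      rw [hcomp, hcomp] at h
      rw [hΛ.1 h]
    · obtain ⟨c, rfl⟩ := hΛ.2 a
      exact ⟨Λ' c, hcomp c⟩
  exact ⟨(AlgEquiv.ofBijective ψ hbij).symm⟩

theorem exists_presentation (p : ℕ) [Fact p.Prime] [CharP (IsLocalRing.ResidueField R) p]
    [PerfectField (IsLocalRing.ResidueField R)]
    (A : Type v) [CommRing A] [HopfAlgebra R A] [Module.Finite R A] [Module.Flat R A] [IsLocalRing A] :
    ∃ (n : ℕ) (e : Fin n → ℕ) (g : Fin n → MvPolynomial (Fin n) R),
      (∀ i, (∀ d, (g i).coeff d ∈ IsLocalRing.maximalIdeal R) ∧ (g i).degreeOf i < p ^ e i) ∧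
      Nonempty (A ≃ₐ[R] (MvPowerSeries (Fin n) R ⧸
        Ideal.span (Set.range fun i => (MvPowerSeries.X i : MvPowerSeries (Fin n) R) ^ p ^ e i + ↑(g i)))) := by
  classical
  let k := IsLocalRing.ResidueField R
  let Ab := k ⊗[R] A
  let π : A →ₐ[R] Ab := Algebra.TensorProduct.includeRight
  have hπ : Function.Surjective π := TensorProduct.mk_surjective R A k IsLocalRing.residue_surjective
  haveI : Nontrivial Ab := nontrivial_of_hopf k Ab
  haveI : IsLocalRing Ab := IsLocalRing.of_surjective' π.toRingHom hπ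
  haveI : IsArtinianRing Ab := IsArtinianRing.of_finite k Ab
  have hnil : ∀ a : Ab, ¬ IsUnit a → IsNilpotent a := fun a ha => by
    obtain ⟨m, hm⟩ := IsArtinianRing.isNilpotent_jacobson_bot (R := Ab)
    rw [IsLocalRing.jacobson_eq_maximalIdeal ⊥ bot_ne_top] at hm
    have h1 := Ideal.pow_mem_pow (show a ∈ IsLocalRing.maximalIdeal Ab from ha) m
    rw [hm] at h1
    exact ⟨m, by simpa using h1⟩
  have hinf : IsInfinitesimal k Ab := fun a ha => hnil a fun hu => by
    have := hu.map (Bialgebra.counitAlgHom k Ab)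
    rw [Bialgebra.counitAlgHom_apply, mem_aug.1 ha] at this
    exact not_isUnit_zero this
  obtain ⟨n, e, xb, he, -, hxb0, hgen, hdim⟩ := hasStd (k := k) p (A := Ab) hinf
  choose x hx using fun i => hπ (xb i)
  let N : Fin n → ℕ := fun i => p ^ e i
  have hN : ∀ i, N i ≠ 0 := fun i => pow_ne_zero _ (Fact.out : p.Prime).ne_zero
  have hxm : ∀ i, x i ∈ IsLocalRing.maximalIdeal A := fun i hu =>
    IsUnit.not_isNilpotent (hu.map π) (by rw [hx]; exact ⟨N i, hxb0 i⟩)
  let ι := ULift.{u} (∀ i, Fin (N i))
  let v : ι → A := fun a => mon x N a.down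
  have hv : ∀ a : ι, π (v a) = mon xb N a.down := fun a => by simp [v, mon, map_prod, hx]
  have hvb : Function.Bijective (Finsupp.linearCombination k (TensorProduct.mk R k A 1 ∘ v)) := by
    have e1 : (TensorProduct.mk R k A 1 ∘ v : ι → Ab) = mon xb N ∘ ULift.down := funext hv
    rw [e1]
    have hsp : ⊤ ≤ Submodule.span k (Set.range (mon xb N ∘ (ULift.down : ι → _))) := by
      rw [ULift.down_surjective.range_comp, span_mon_eq_top xb N hxb0 hgen]
    refine ⟨linearIndependent_of_top_le_span_of_card_eq_finrank hsp ?_, ?_⟩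
    · rw [hdim, Fintype.card_ulift, Fintype.card_pi]
      simp [N, Finset.prod_pow_eq_pow_sum]
    · rw [← LinearMap.range_eq_top, Finsupp.range_linearCombination]
      exact top_le_iff.1 hsp
  have hvA := Module.IsLocalRing.linearCombination_bijective_of_flat v hvb
  have hΛ : Function.Bijective (Finsupp.linearCombination R fun a : ∀ i, Fin (N i) => mon x N a) := by
    have : (Finsupp.linearCombination R v) = (Finsupp.linearCombination R fun a : ∀ i, Fin (N i) => mon x N a) ∘ₗ
        (Finsupp.domLCongr (Equiv.ulift : ι ≃ _)).toLinearMap := Finsupp.lhom_ext fun a r => by simp [v]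
    rw [this, LinearMap.coe_comp] at hvA
    exact (Function.Bijective.of_comp_iff _ (Finsupp.domLCongr (Equiv.ulift : ι ≃ _)).bijective).1 hvA
  choose c hc using fun i => hΛ.2 (x i ^ N i)
  have hcm : ∀ i a, c i a ∈ IsLocalRing.maximalIdeal R := by
    intro i a
    have h0 : Finsupp.linearCombination k (TensorProduct.mk R k A 1 ∘ v)
        (Finsupp.mapRange (algebraMap R k) (map_zero _) ((c i).mapDomain ULift.up)) = 0 := by
      have h1 : π (x i ^ N i) = 0 := by rw [map_pow, hx]; exact hxb0 i
      rw [← hc i] at h1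
      refine Eq.trans ?_ h1
      induction c i using Finsupp.induction_linear with
      | zero => simp
      | add f f' hf hf' => simp only [Finsupp.mapDomain_add, Finsupp.mapRange_add (map_add (algebraMap R k)), map_add, hf, hf']
      | single b r =>
        simp only [Finsupp.mapDomain_single, Finsupp.mapRange_single, Finsupp.linearCombination_single,
          map_smul, algebraMap_smul]
        rfl
    have h2 := congrArg (fun f : ι →₀ k => f (ULift.up a)) (hvb.1 (h0.trans (map_zero _).symm))
    simp only [Finsupp.mapRange_apply, Finsupp.mapDomain_apply ULift.up_injective, Finsupp.zero_apply] at h2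
    exact IsLocalRing.residue_eq_zero_iff _ |>.1 h2
  let g : Fin n → MvPolynomial (Fin n) R := fun i => - ∑ a, MvPolynomial.monomial (expo a) (c i a)
  have hg : ∀ i d, (g i).coeff d ∈ IsLocalRing.maximalIdeal R := fun i d => by
    simp only [g, MvPolynomial.coeff_neg, neg_mem_iff, MvPolynomial.coeff_sum, MvPolynomial.coeff_monomial]
    refine Submodule.sum_mem _ fun a _ => ?_
    split_ifs
    · exact hcm i a
    · exact zero_mem _
  have hF : ∀ i, x i ^ N i + MvPolynomial.aeval x (g i) = 0 := fun i => by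
    rw [map_neg, ← sub_eq_add_neg, sub_eq_zero, map_sum, ← hc i, Finsupp.linearCombination_apply,
      Finsupp.sum_fintype _ _ (fun a => by simp)]
    exact Finset.sum_congr rfl fun a _ => (aeval_monomial_expo x a _).symm
  refine ⟨n, e, g, fun i => ⟨hg i, ?_⟩, exists_iso N hN x hxm g hg hF hΛ⟩
  rw [MvPolynomial.degreeOf_lt_iff (Nat.pos_of_ne_zero (hN i))]
  intro d hd
  obtain ⟨a, -, ha⟩ : ∃ a ∈ Finset.univ, d = expo a := by
    by_contra h
    push Not at h
    refine (MvPolynomial.mem_support_iff.1 hd) ?_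
    simp only [g, MvPolynomial.coeff_neg, MvPolynomial.coeff_sum, MvPolynomial.coeff_monomial, neg_eq_zero]
    exact Finset.sum_eq_zero fun a ha => if_neg (fun e => h a ha e.symm)
  rw [ha, expo_apply]
  exact (a i).2

end Groth.Agent.InfStd
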